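import Groth.Agent.FPModelLib.ZSys
import Groth.Agent.AffLim.Constructible
import Groth.Agent.GeomRedDesc.Basic
import Groth.Agent.NearGen.ConstrScheme
import Groth.Agent.S9777

/-!
# Properties of the fibres which hold over the limit hold at some stage
-/

set_option autoImplicit false
set_option backward.isDefEq.respectTransparency false
set_option linter.style.haveILetI false

universe u

open CategoryTheory CategoryTheory.Limits AlgebraicGeometry Topology

noncomputable section

namespace Groth.Agent.FPModelLib

variable {I : Type u} [SmallCategory I] [IsCofiltered I] (D : I ⥤ Scheme.{u}) (c : Cone D) (hc : IsLimit c)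
  [∀ {i j} (a : i ⟶ j), IsAffineHom (D.map a)]

include hc in
/-- A locally constructible set containing the image of the limit contains the image of a stage. -/
theorem exists_stage_forall_mem {i : I} [CompactSpace (D.obj i)] [QuasiSeparatedSpace (D.obj i)]
    {E : Set (D.obj i)} (hE : IsLocallyConstructible E) (h : ∀ s, c.π.app i s ∈ E) :
    ∃ (j : I) (φ : j ⟶ i), ∀ z, D.map φ z ∈ E := by
  obtain ⟨j, φ, hj⟩ := AffLim.exists_preimage_eq_empty D c hc hE.isConstructible.compl
    (Set.eq_empty_iff_forall_notMem.2 fun s hs => hs (h s))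
  exact ⟨j, φ, fun z => by_contra fun hz => (Set.eq_empty_iff_forall_notMem.1 hj z) hz⟩

variable {X X' S S' : Scheme.{u}} {f : X ⟶ S} {f' : X' ⟶ S'} {g : S' ⟶ S} {g' : X' ⟶ X}

/-- Geometric reducedness is tested on the fibres. -/
theorem geometricallyReduced_of_fibres
    (h : ∀ s : S, GeometricallyReduced (f.fiberToSpecResidueField s)) : GeometricallyReduced f := by
  refine ⟨fun L _ y Z fst' snd' H => ?_⟩
  let s := y (IsLocalRing.closedPoint L)
  let e := Spec.map (S.descResidueField (Scheme.stalkClosedPointTo y))
  have he : e ≫ S.fromSpecResidueField s = y := S.descResidueField_stalkClosedPointTo_fromSpecResidueField _ _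
  let l : Z ⟶ f.fiber s := pullback.lift fst' (snd' ≫ e) (by rw [Category.assoc, he]; exact H.w)
  have hl : IsPullback l snd' (f.fiberToSpecResidueField s) e := by
    refine IsPullback.of_right ?_ (pullback.lift_snd _ _ _) (IsPullback.of_hasPullback f (S.fromSpecResidueField s))
    rw [pullback.lift_fst, he]
    exact H
  haveI := h s
  exact GeometricallyReduced.geometrically_isReduced _ _ _ hl

theorem geometricallyReduced_fiber [GeometricallyReduced f] (s : S) :
    GeometricallyReduced (f.fiberToSpecResidueField s) :=
  MorphismProperty.pullback_snd _ _ inferInstance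

/-- Geometric reducedness of a fibre only depends on its image. -/
theorem geometricallyReduced_fiber_iff (hc : IsPullback g' f' f g) (z : S') :
    GeometricallyReduced (f'.fiberToSpecResidueField z) ↔ GeometricallyReduced (f.fiberToSpecResidueField (g z)) := by
  have H := isPullback_fiberToSpecResidueField_of_isPullback hc z
  refine ⟨fun h => ?_, fun h => MorphismProperty.of_isPullback H h⟩
  haveI : Surjective (Spec.map (g.residueFieldMap z)) :=
    ⟨fun w => ⟨IsLocalRing.closedPoint _, Subsingleton.elim (α := PrimeSpectrum (S.residueField (g z))) _ _⟩⟩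
  haveI : GeometricallyReduced (pullback.snd (f.fiberToSpecResidueField (g z)) (Spec.map (g.residueFieldMap z))) := by
    rw [← MorphismProperty.cancel_left_of_respectsIso @GeometricallyReduced H.isoPullback.hom,
      H.isoPullback_hom_snd]
    exact h
  exact GeomRedDesc.geometricallyReduced_of_surjective _ (Spec.map (g.residueFieldMap z))

include hc in
/-- Geometrically reduced fibres descend to a stage. -/
theorem exists_geometricallyReduced {i : I} [CompactSpace (D.obj i)] [QuasiSeparatedSpace (D.obj i)]
    {G T : Scheme.{u}} (g₀ : G ⟶ D.obj i) [QuasiCompact g₀] [LocallyOfFinitePresentation g₀] {fT : T ⟶ c.pt}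
    {q : T ⟶ G} (hsq : IsPullback q fT g₀ (c.π.app i)) [GeometricallyReduced fT] :
    ∃ (j : I) (φ : j ⟶ i), GeometricallyReduced (pullback.snd g₀ (D.map φ)) := by
  obtain ⟨j, φ, h⟩ := exists_stage_forall_mem D c hc (NearGen.isLocallyConstructible_geometricallyReduced g₀)
    fun s => (geometricallyReduced_fiber_iff hsq s).1 (geometricallyReduced_fiber s)
  exact ⟨j, φ, geometricallyReduced_of_fibres fun z =>
    (geometricallyReduced_fiber_iff (IsPullback.of_hasPullback g₀ (D.map φ)) z).2 (h z)⟩

include hc in
/-- The dimension of the fibres descends to a stage. -/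
theorem exists_fibreDim_eq {i : I} [CompactSpace (D.obj i)] [QuasiSeparatedSpace (D.obj i)] {G T : Scheme.{u}}
    (g₀ : G ⟶ D.obj i) [QuasiCompact g₀] [LocallyOfFinitePresentation g₀] {fT : T ⟶ c.pt} {q : T ⟶ G}
    (hsq : IsPullback q fT g₀ (c.π.app i)) (n : WithBot ℕ∞)
    (hn : ∀ s, topologicalKrullDim ↥(fT.fiber s) = n) :
    ∃ (j : I) (φ : j ⟶ i), ∀ z, topologicalKrullDim ↥((pullback.snd g₀ (D.map φ)).fiber z) = n := by
  obtain ⟨j, φ, h⟩ := exists_stage_forall_mem D c hc (NearGen.isLocallyConstructible_fibreDim g₀ n)
    fun s => (S9777.result g₀ _ fT q hsq s).symm.trans (hn s)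
  exact ⟨j, φ, fun z => (S9777.result g₀ _ _ _ (IsPullback.of_hasPullback g₀ (D.map φ)) z).trans (h z)⟩

end Groth.Agent.FPModelLib
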