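import Groth.Agent.AffLim.DescendMore

/-!
# Base change of a morphism over a stage
-/

set_option autoImplicit false
set_option backward.isDefEq.respectTransparency false

universe u

open CategoryTheory CategoryTheory.Limits AlgebraicGeometry

noncomputable section

namespace Groth.Agent.FPModelLib

variable {I : Type u} [SmallCategory I] (D : I ⥤ Scheme.{u})

/-- Base change of a morphism to a later stage, as a pullback. -/
theorem prop_snd_of_baseChangeMap {P : MorphismProperty Scheme.{u}} [P.IsStableUnderBaseChange] {i : I}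
    {X₀ : Scheme.{u}} (f₀ : X₀ ⟶ D.obj i) (k : Over i)
    (h : P ((AffLim.baseChangeMap D i f₀ (𝟙 (D.obj i))).app k)) : P (pullback.snd f₀ (D.map k.hom)) := by
  have h1 : IsPullback _ ((AffLim.baseChangeMap D i f₀ (𝟙 (D.obj i))).app k ≫
      pullback.snd (𝟙 (D.obj i)) (D.map k.hom)) (f₀ ≫ 𝟙 (D.obj i)) (D.map k.hom) :=
    (AffLim.isPullback_baseChangeMap D i f₀ (𝟙 (D.obj i)) k).paste_vert
      (IsPullback.of_hasPullback (𝟙 (D.obj i)) (D.map k.hom))
  have h2 : IsPullback (pullback.fst f₀ (D.map k.hom)) (pullback.snd f₀ (D.map k.hom))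
      (f₀ ≫ 𝟙 (D.obj i)) (D.map k.hom) := by
    simpa using IsPullback.of_hasPullback f₀ (D.map k.hom)
  rw [← h2.isoIsPullback_hom_snd _ _ h1, P.cancel_left_of_respectsIso]
  exact (P.cancel_right_of_respectsIso _ _).2 h

end Groth.Agent.FPModelLib
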