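import Groth.Agent.AffLim.DescendMore
import Groth.Agent.FlatStage.Given
import Groth.Agent.ChowLib.General
import Groth.Agent.AmpleEmb.Compose

/-!
# Properness at the limit holds at some stage
-/

set_option autoImplicit false
set_option backward.isDefEq.respectTransparency false
set_option backward.defeqAttrib.useBackward true
set_option linter.style.haveILetI false
set_option linter.unusedSectionVars false

universe u

open CategoryTheory CategoryTheory.Limits AlgebraicGeometry

noncomputable section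

namespace Groth.Agent.FPModelLib

variable {I : Type u} [SmallCategory I] [IsCofiltered I] (D : I ⥤ Scheme.{u}) (c : Cone D) (hc : IsLimit c)
  [∀ {i j} (a : i ⟶ j), IsAffineHom (D.map a)]

include hc in
/-- A separated morphism which is proper in the limit is proper at some stage. -/
theorem exists_proper_of_separated (i : I) {X₀ Y₀ : Scheme.{u}} (f₀ : X₀ ⟶ Y₀) (g₀ : Y₀ ⟶ D.obj i)
    [CompactSpace X₀] [QuasiSeparatedSpace X₀] [CompactSpace Y₀] [QuasiSeparatedSpace Y₀]
    [LocallyOfFiniteType f₀] [IsSeparated f₀] {X Y : Scheme.{u}} {f : X ⟶ Y} {g : Y ⟶ c.pt} {qY : Y ⟶ Y₀}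
    {qX : X ⟶ X₀} (hY : IsPullback qY g g₀ (c.π.app i)) (hX : IsPullback qX f f₀ qY) [IsProper f] :
    ∃ k : Over i, IsProper ((AffLim.baseChangeMap D i f₀ g₀).app k) := by
  haveI : QuasiCompact f₀ := quasiCompact_of_compactSpace _
  obtain ⟨n, X', π, j, hj, hjf, hπ, hsurj⟩ := ChowLib.exists_chow_general f₀
  haveI := hj
  haveI := hπ
  haveI := hsurj
  let β := CohB1.ProjSpaceOver.toBase n Y₀
  haveI : IsProper β := AmpleEmb.isProper_toBase n Y₀
  haveI : CompactSpace X' := QuasiCompact.compactSpace_of_compactSpace π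
  haveI : QuasiSeparatedSpace X' := quasiSeparatedSpace_of_quasiSeparated π
  haveI : CompactSpace ↥(CohB1.ProjSpaceOver n Y₀) := QuasiCompact.compactSpace_of_compactSpace β
  haveI : QuasiSeparatedSpace ↥(CohB1.ProjSpaceOver n Y₀) := quasiSeparatedSpace_of_quasiSeparated β
  haveI : LocallyOfFiniteType (j ≫ β) := by
    show LocallyOfFiniteType (j ≫ CohB1.ProjSpaceOver.toBase n Y₀)
    rw [hjf]; infer_instance
  haveI : LocallyOfFiniteType j := locallyOfFiniteType_of_comp j β
  let πl := pullback.snd π qX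
  let βl := pullback.snd β qY
  let jl : pullback π qX ⟶ pullback β qY := pullback.lift (pullback.fst π qX ≫ j) (πl ≫ f) (by
    rw [Category.assoc, hjf, ← Category.assoc, pullback.condition, Category.assoc, hX.w, ← Category.assoc])
  have hP : IsPullback (pullback.fst β qY) (βl ≫ g) (β ≫ g₀) (c.π.app i) :=
    (IsPullback.of_hasPullback β qY).paste_vert hY
  have hJ : IsPullback (pullback.fst π qX) jl j (pullback.fst β qY) := by
    refine IsPullback.of_bot ?_ (pullback.lift_fst _ _ _).symm (IsPullback.of_hasPullback β qY)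
    rw [pullback.lift_snd, hjf]
    exact (IsPullback.of_hasPullback π qX).paste_vert hX
  haveI : IsClosedImmersion jl := by
    haveI : IsImmersion jl := MorphismProperty.of_isPullback hJ inferInstance
    haveI : IsProper (jl ≫ βl) := by rw [pullback.lift_snd]; infer_instance
    haveI : IsProper jl := IsProper.of_comp jl βl
    exact AffLim.isClosedImmersion_of_isImmersion jl jl.isClosedMap.isClosed_range
  obtain ⟨k, hk⟩ := AffLim.exists_isClosedImmersion_baseChange D c hc i j (β ≫ g₀) hP hJ
  refine ⟨k, ?_⟩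
  let fk := (AffLim.baseChangeMap D i f₀ g₀).app k
  let πk := (AffLim.baseChangeMap D i π (f₀ ≫ g₀)).app k
  let βk := (AffLim.baseChangeMap D i β g₀).app k
  haveI : IsProper βk := AffLim.prop_baseChangeMap D i β g₀ @IsProper inferInstance k
  haveI : Surjective πk := AffLim.prop_baseChangeMap D i π _ @Surjective inferInstance k
  haveI : LocallyOfFiniteType fk := AffLim.prop_baseChangeMap D i f₀ g₀ @LocallyOfFiniteType inferInstance k
  haveI : IsSeparated fk := AffLim.prop_baseChangeMap D i f₀ g₀ @IsSeparated inferInstance k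
  let jk := (AffLim.baseChangeMap D i j (β ≫ g₀)).app k
  haveI : IsClosedImmersion jk := hk
  have hcg : j ≫ β ≫ g₀ = π ≫ f₀ ≫ g₀ := by
    show j ≫ CohB1.ProjSpaceOver.toBase n Y₀ ≫ g₀ = _
    rw [reassoc_of% hjf]
  let e := pullback.congrHom (f₁ := π ≫ f₀ ≫ g₀) (g₁ := D.map k.hom) hcg.symm rfl
  have he : πk ≫ fk = e.hom ≫ jk ≫ βk := by
    apply pullback.hom_ext
    · simp only [πk, fk, e, jk, βk, AffLim.baseChangeMap, pullback.map, pullback.congrHom_hom, Category.assoc,
        pullback.lift_fst, pullback.lift_fst_assoc, Category.comp_id]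
      exact congrArg (pullback.fst _ _ ≫ ·) hjf.symm
    · simp [πk, fk, e, jk, βk, AffLim.baseChangeMap, pullback.map]
  haveI : UniversallyClosed (πk ≫ fk) := by rw [he]; infer_instance
  haveI : UniversallyClosed fk := UniversallyClosed.of_comp_surjective πk fk
  exact {}

include hc in
/-- A morphism which is proper in the limit is proper at some stage. -/
theorem exists_proper_stage (i : I) {X₀ Y₀ : Scheme.{u}} (f₀ : X₀ ⟶ Y₀) (g₀ : Y₀ ⟶ D.obj i)
    [CompactSpace X₀] [QuasiSeparatedSpace X₀] [CompactSpace Y₀] [QuasiSeparatedSpace Y₀]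
    [LocallyOfFiniteType f₀] {X Y : Scheme.{u}} {f : X ⟶ Y} {g : Y ⟶ c.pt} {qY : Y ⟶ Y₀}
    {qX : X ⟶ X₀} (hY : IsPullback qY g g₀ (c.π.app i)) (hX : IsPullback qX f f₀ qY) [IsProper f] :
    ∃ (j : I) (φ : j ⟶ i), IsProper ((AffLim.baseChangeMap D i f₀ g₀).app (Over.mk φ)) := by
  obtain ⟨k, hk⟩ := AffLim.exists_isSeparated_baseChange D c hc i f₀ g₀ hY hX
  let fk := (AffLim.baseChangeMap D i f₀ g₀).app k
  let gk : (AffLim.baseChange D i g₀).obj k ⟶ D.obj k.left := pullback.snd g₀ (D.map k.hom)
  haveI : IsSeparated fk := hk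
  haveI : LocallyOfFiniteType fk := AffLim.prop_baseChangeMap D i f₀ g₀ @LocallyOfFiniteType inferInstance k
  have hY' : IsPullback (FlatStage.vMap D c i g₀ hY k) g gk (c.π.app k.left) := by
    refine IsPullback.of_right ?_ (FlatStage.vMap_snd D c i g₀ hY k) (IsPullback.of_hasPullback g₀ (D.map k.hom))
    rw [FlatStage.vMap_fst, c.w]
    exact hY
  obtain ⟨l, hl⟩ := exists_proper_of_separated D c hc k.left fk gk hY' (FlatStage.isPullback_vMap D c i f₀ g₀ hY hX k)
  refine ⟨l.left, l.hom ≫ k.hom, ?_⟩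
  let m : Over i := Over.mk (l.hom ≫ k.hom)
  have h1 : IsPullback (pullback.fst gk (D.map l.hom) ≫ pullback.fst g₀ (D.map k.hom))
      (pullback.snd gk (D.map l.hom)) g₀ (D.map m.hom) := by
    rw [show D.map m.hom = D.map l.hom ≫ D.map k.hom from D.map_comp _ _]
    exact (IsPullback.of_hasPullback gk (D.map l.hom)).paste_horiz (IsPullback.of_hasPullback g₀ (D.map k.hom))
  have h2 := (AffLim.isPullback_baseChangeMap D k.left fk gk l).paste_horiz
    (AffLim.isPullback_baseChangeMap D i f₀ g₀ k)
  obtain ⟨eX, eY, -, -, -, hsq⟩ := FlatStage.exists_comparison D i f₀ g₀ m h1 h2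
  exact MorphismProperty.of_isPullback (P := @IsProper) hsq hl

end Groth.Agent.FPModelLib
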