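import Groth.Agent.AffLim.Presentation

/-!
# Affine schemes of finite presentation over a limit of affine schemes come from a stage
-/

set_option autoImplicit false
set_option backward.isDefEq.respectTransparency false
set_option backward.defeqAttrib.useBackward true
set_option linter.style.haveILetI false

universe u

open CategoryTheory CategoryTheory.Limits AlgebraicGeometry TensorProduct

noncomputable section

namespace Groth.Agent.FPModelLib

variable {I : Type u} [SmallCategory I] [IsCofiltered I] (D : I ⥤ Scheme.{u}) (c : Cone D)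
  (hc : IsLimit c) [∀ i, IsAffine (D.obj i)]

include hc in
theorem exists_affine_model {U : Scheme.{u}} [IsAffine U] (f : U ⟶ c.pt) [LocallyOfFinitePresentation f] :
    ∃ (i : I) (U₀ : Scheme.{u}) (f₀ : U₀ ⟶ D.obj i) (q : U ⟶ U₀),
      IsAffine U₀ ∧ LocallyOfFinitePresentation f₀ ∧ IsPullback q f f₀ (c.π.app i) := by
  classical
  haveI : IsAffine c.pt := Scheme.isAffine_of_isLimit c hc
  have hfp : f.appTop.hom.FinitePresentation :=
    (HasRingHomProperty.iff_of_isAffine (P := @LocallyOfFinitePresentation)).1 inferInstance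
  letI : Algebra Γ(c.pt, ⊤) Γ(U, ⊤) := f.appTop.hom.toAlgebra
  haveI : Algebra.FinitePresentation Γ(c.pt, ⊤) Γ(U, ⊤) := hfp
  obtain ⟨n, m, ⟨P⟩⟩ := Algebra.Presentation.exists_presentation_fin Γ(c.pt, ⊤) Γ(U, ⊤)
  choose j t ht using fun a : P.coeffs => exists_appTop_π_eq_of_isAffine_of_isLimit D c hc (a : Γ(c.pt, ⊤))
  haveI : Fintype P.coeffs := P.finite_coeffs.fintype
  obtain ⟨i, hi⟩ := IsCofiltered.inf_objs_exists (Finset.univ.image j)
  let b : ∀ a : P.coeffs, i ⟶ j a := fun a => (hi (Finset.mem_image_of_mem _ (Finset.mem_univ a))).some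
  letI : Algebra Γ(D.obj i, ⊤) Γ(c.pt, ⊤) := (c.π.app i).appTop.hom.toAlgebra
  letI : Algebra Γ(D.obj i, ⊤) Γ(U, ⊤) := ((c.π.app i).appTop ≫ f.appTop).hom.toAlgebra
  haveI : IsScalarTower Γ(D.obj i, ⊤) Γ(c.pt, ⊤) Γ(U, ⊤) := IsScalarTower.of_algebraMap_eq' rfl
  haveI : P.HasCoeffs Γ(D.obj i, ⊤) := ⟨fun x hx => ⟨(D.map (b ⟨x, hx⟩)).appTop (t ⟨x, hx⟩), by
    show (c.π.app i).appTop _ = x
    rw [← CommRingCat.comp_apply, ← Scheme.Hom.comp_appTop, c.w]
    exact ht ⟨x, hx⟩⟩⟩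
  let B₀ := CommRingCat.of (P.ModelOfHasCoeffs Γ(D.obj i, ⊤))
  let g₀ : Γ(D.obj i, ⊤) ⟶ B₀ := CommRingCat.ofHom (algebraMap _ _)
  let e := P.tensorModelOfHasCoeffsEquiv Γ(D.obj i, ⊤)
  let qr : B₀ ⟶ Γ(U, ⊤) :=
    CommRingCat.ofHom (e.toRingHom.comp Algebra.TensorProduct.includeRight.toRingHom)
  have hpo : IsPushout (c.π.app i).appTop g₀ f.appTop qr := by
    refine (CommRingCat.isPushout_tensorProduct Γ(D.obj i, ⊤) Γ(c.pt, ⊤)
      (P.ModelOfHasCoeffs Γ(D.obj i, ⊤))).of_iso (Iso.refl _) (Iso.refl _) (Iso.refl _)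
      e.toRingEquiv.toCommRingCatIso ?_ ?_ ?_ ?_
    · rfl
    · rfl
    · exact CommRingCat.hom_ext (RingHom.ext fun x => e.commutes x)
    · rfl
  have hpb := isPullback_SpecMap_of_isPushout _ _ _ _ hpo
  let f₀ : Spec B₀ ⟶ D.obj i := Spec.map g₀ ≫ (D.obj i).isoSpec.inv
  refine ⟨i, Spec B₀, f₀, U.isoSpec.hom ≫ Spec.map qr, inferInstance, ?_, ?_⟩
  · haveI : LocallyOfFinitePresentation (Spec.map g₀) := by
      rw [HasRingHomProperty.Spec_iff (P := @LocallyOfFinitePresentation), CommRingCat.hom_ofHom,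
        RingHom.finitePresentation_algebraMap]
      infer_instance
    infer_instance
  · refine hpb.flip.of_iso U.isoSpec.symm (Iso.refl _) c.pt.isoSpec.symm (D.obj i).isoSpec.symm ?_ ?_ ?_ ?_
    · simp
    · simp [Scheme.isoSpec_inv_naturality]
    · simp [f₀]
    · simp [Scheme.isoSpec_inv_naturality]

end Groth.Agent.FPModelLib
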