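import Groth.Agent.FPModelLib.ZSys
import Groth.Agent.FPModelLib.Affine

/-!
# Models over finitely generated subrings
-/

set_option autoImplicit false
set_option backward.isDefEq.respectTransparency false
set_option linter.style.haveILetI false

universe u

open CategoryTheory CategoryTheory.Limits AlgebraicGeometry Opposite

noncomputable section

namespace Groth.Agent.FPModelLib

/-- The projection from an affine scheme to a finitely generated stage. -/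
def zπ (S : Scheme.{u}) [IsAffine S] (i : (ZIdx Γ(S, ⊤))ᵒᵖ) : S ⟶ (zSys Γ(S, ⊤)).obj i :=
  S.isoSpec.hom ≫ (zCone Γ(S, ⊤)).π.app i

theorem zπ_map (S : Scheme.{u}) [IsAffine S] {i j : (ZIdx Γ(S, ⊤))ᵒᵖ} (φ : j ⟶ i) :
    zπ S j ≫ (zSys Γ(S, ⊤)).map φ = zπ S i := by
  rw [zπ, zπ, Category.assoc, (zCone Γ(S, ⊤)).w]

theorem finiteType_Γ_zSys (A : CommRingCat.{u}) (i : (ZIdx A)ᵒᵖ) : Algebra.FiniteType ℤ Γ((zSys A).obj i, ⊤) := by
  let e : (CommRingCat.of i.unop.1 : CommRingCat.{u}) ≃+* Γ((zSys A).obj i, ⊤) :=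
    (Scheme.ΓSpecIso (CommRingCat.of i.unop.1)).symm.commRingCatIsoToRingEquiv
  haveI : Algebra.FiniteType ℤ i.unop.1 := finiteType_zSys A i
  exact Algebra.FiniteType.of_surjective (R := ℤ) (A := i.unop.1) e.toRingHom.toIntAlgHom e.surjective

/-- A model of an affine morphism over a finitely generated subring. -/
theorem exists_affine_zmodel {X S : Scheme.{u}} (f : X ⟶ S) [IsAffine X] [IsAffine S] [LocallyOfFinitePresentation f] :
    ∃ (i : (ZIdx Γ(S, ⊤))ᵒᵖ) (X₀ : Scheme.{u}) (f₀ : X₀ ⟶ (zSys Γ(S, ⊤)).obj i) (q : X ⟶ X₀),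
      IsAffine X₀ ∧ LocallyOfFinitePresentation f₀ ∧ IsPullback q f f₀ (zπ S i) := by
  let f' : X ⟶ (zCone Γ(S, ⊤)).pt := f ≫ S.isoSpec.hom
  haveI : LocallyOfFinitePresentation f' := inferInstanceAs (LocallyOfFinitePresentation (f ≫ S.isoSpec.hom))
  obtain ⟨i, X₀, f₀, q, hX₀, hfp, hsq⟩ := exists_affine_model (zSys Γ(S, ⊤)) (zCone Γ(S, ⊤)) (isLimitZCone _) f'
  refine ⟨i, X₀, f₀, q, hX₀, hfp, ?_⟩
  refine hsq.of_iso (Iso.refl _) (Iso.refl _) S.isoSpec.symm (Iso.refl _) ?_ ?_ ?_ ?_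
  · simp
  · exact ((Category.assoc f S.isoSpec.hom S.isoSpec.inv).trans ((congrArg (f ≫ ·) S.isoSpec.hom_inv_id).trans
      (Category.comp_id f))).trans (Category.id_comp f).symm
  · simp
  · exact (Category.comp_id _).trans (S.isoSpec.inv_hom_id_assoc _).symm

/-- A model can be moved to a later stage. -/
theorem exists_isPullback_stage {X S : Scheme.{u}} [IsAffine S] (f : X ⟶ S) {i j : (ZIdx Γ(S, ⊤))ᵒᵖ} (φ : j ⟶ i)
    {X₀ : Scheme.{u}} {f₀ : X₀ ⟶ (zSys Γ(S, ⊤)).obj i} {q : X ⟶ X₀} (h : IsPullback q f f₀ (zπ S i)) :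
    ∃ q' : X ⟶ pullback f₀ ((zSys Γ(S, ⊤)).map φ),
      IsPullback q' f (pullback.snd f₀ ((zSys Γ(S, ⊤)).map φ)) (zπ S j) := by
  refine ⟨pullback.lift q (f ≫ zπ S j) (by rw [Category.assoc, zπ_map]; exact h.w), ?_⟩
  refine IsPullback.of_right ?_ (pullback.lift_snd _ _ _) (IsPullback.of_hasPullback f₀ _)
  rw [pullback.lift_fst, zπ_map]
  exact h

/-- The same square with target the cone point. -/
theorem isPullback_cone {X S : Scheme.{u}} [IsAffine S] (f : X ⟶ S) {i : (ZIdx Γ(S, ⊤))ᵒᵖ}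
    {X₀ : Scheme.{u}} {f₀ : X₀ ⟶ (zSys Γ(S, ⊤)).obj i} {q : X ⟶ X₀} (h : IsPullback q f f₀ (zπ S i)) :
    IsPullback q (f ≫ S.isoSpec.hom) f₀ ((zCone Γ(S, ⊤)).π.app i) :=
  h.of_iso (Iso.refl _) (Iso.refl _) S.isoSpec (Iso.refl _) (by simp)
    ((Category.id_comp _).symm) (by simp) (by simp [zπ])

end Groth.Agent.FPModelLib
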