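import Groth.Agent.AffLim.Presentation

/-!
# A ring as the colimit of its finitely generated subrings
-/

set_option autoImplicit false
set_option backward.isDefEq.respectTransparency false

universe u

open CategoryTheory CategoryTheory.Limits AlgebraicGeometry Opposite

noncomputable section

namespace Groth.Agent.FPModelLib

variable (A : CommRingCat.{u})

/-- The finitely generated subrings of `A`. -/
abbrev ZIdx : Type u := {S : Subalgebra ℤ A // S.FG}

instance : IsDirected (ZIdx A) (· ≤ ·) :=
  ⟨fun S T => ⟨⟨S.1 ⊔ T.1, S.2.sup T.2⟩, le_sup_left (b := T.1), le_sup_right (a := S.1)⟩⟩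

instance : Nonempty (ZIdx A) := ⟨⟨⊥, Subalgebra.fg_bot⟩⟩

/-- The system of finitely generated subrings. -/
def zRing : ZIdx A ⥤ CommRingCat.{u} where
  obj S := CommRingCat.of S.1
  map h := CommRingCat.ofHom (Subalgebra.inclusion h.le).toRingHom
  map_id _ := by ext x; rfl
  map_comp _ _ := by ext x; rfl

/-- The inclusions into `A`. -/
def zCocone : Cocone (zRing A) where
  pt := A
  ι :=
    { app := fun S => CommRingCat.ofHom S.1.val.toRingHom
      naturality := fun _ _ _ => by ext x; rfl }

/-- The inclusions form a colimit. -/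
def isColimitZCocone : IsColimit (zCocone A) :=
  (AffLim.nonempty_isColimit_of_elementwise (zCocone A)
    (fun x => ⟨⟨Algebra.adjoin ℤ {(x : A)}, ⟨{x}, by simp⟩⟩, ⟨x, Algebra.subset_adjoin rfl⟩, rfl⟩)
    (fun S x y e => ⟨S, le_rfl, by rw [show x = y from Subtype.ext e]⟩)).some

/-- The system of spectra of finitely generated subrings. -/
def zSys : (ZIdx A)ᵒᵖ ⥤ Scheme.{u} := (zRing A).op ⋙ Scheme.Spec

/-- The cone with vertex `Spec A`. -/
def zCone : Cone (zSys A) := Scheme.Spec.mapCone (zCocone A).op

/-- `Spec A` is the limit of the spectra of its finitely generated subrings. -/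
def isLimitZCone : IsLimit (zCone A) := isLimitOfPreserves Scheme.Spec (isColimitZCocone A).op

theorem zCone_pt : (zCone A).pt = Spec A := rfl

instance isAffine_zSys (i : (ZIdx A)ᵒᵖ) : IsAffine ((zSys A).obj i) :=
  inferInstanceAs (IsAffine (Spec (CommRingCat.of i.unop.1)))

instance isAffineHom_zSys {i j : (ZIdx A)ᵒᵖ} (a : i ⟶ j) : IsAffineHom ((zSys A).map a) :=
  inferInstanceAs (IsAffineHom (Spec.map _))

instance isNoetherian_zSys (i : (ZIdx A)ᵒᵖ) : IsNoetherian ((zSys A).obj i) := by
  haveI : Algebra.FiniteType ℤ i.unop.1 := (Subalgebra.fg_iff_finiteType i.unop.1).1 i.unop.2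
  haveI : IsNoetherianRing i.unop.1 := Algebra.FiniteType.isNoetherianRing ℤ _
  exact inferInstanceAs (IsNoetherian (Spec (CommRingCat.of i.unop.1)))

theorem finiteType_zSys (i : (ZIdx A)ᵒᵖ) : Algebra.FiniteType ℤ i.unop.1 :=
  (Subalgebra.fg_iff_finiteType i.unop.1).1 i.unop.2

end Groth.Agent.FPModelLib
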