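import Mathlib

/-!
# Gluing two models along an open subscheme
-/

set_option autoImplicit false
set_option backward.isDefEq.respectTransparency false
set_option backward.defeqAttrib.useBackward true
set_option linter.style.haveILetI false

universe u

open CategoryTheory CategoryTheory.Limits AlgebraicGeometry TopologicalSpace

noncomputable section

namespace Groth.Agent.FPModelLib

/-- `g` is a model over `S₀` of `f` with respect to `π`. -/
structure IsModel {X S' S₀ G : Scheme.{u}} (f : X ⟶ S') (π : S' ⟶ S₀) (g : G ⟶ S₀) (q : X ⟶ G) : Prop where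
  compact : CompactSpace G
  qs : QuasiSeparatedSpace G
  lfp : LocallyOfFinitePresentation g
  isPullback : IsPullback q f g π

/-- A scheme covered by two compact quasi-separated opens with compact overlap is quasi-separated. -/
theorem quasiSeparatedSpace_of_two {G : Scheme.{u}} (V U : G.Opens) (hVU : V ⊔ U = ⊤)
    [QuasiSeparatedSpace V.toScheme] [QuasiSeparatedSpace U.toScheme]
    (hV : IsCompact (V : Set G)) (hU : IsCompact (U : Set G)) (hc : IsCompact ((V : Set G) ∩ U)) :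
    QuasiSeparatedSpace G := by
  have hcov : ∀ x : G, x ∈ (V : Set G) ∨ x ∈ (U : Set G) := fun x => by
    have : x ∈ V ⊔ U := by rw [hVU]; trivial
    exact this
  -- compact opens inside one piece
  have hin : ∀ (O : G.Opens) [QuasiSeparatedSpace O.toScheme] (s t : Set G), IsOpen s → IsOpen t →
      IsCompact s → IsCompact t → s ⊆ O → t ⊆ O → IsCompact (s ∩ t) := fun O _ s t hs ht hsc htc hsO htO => by
    have e : ∀ r : Set G, r ⊆ O → O.ι '' (O.ι ⁻¹' r) = r := fun r hr =>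
      Set.image_preimage_eq_of_subset (by rw [Scheme.Opens.range_ι]; exact hr)
    have hc' : ∀ r : Set G, r ⊆ O → IsCompact r → IsCompact (O.ι ⁻¹' r) := fun r hr h => by
      rw [O.ι.isOpenEmbedding.isEmbedding.isCompact_iff, e r hr]; exact h
    rw [← e (s ∩ t) (Set.inter_subset_left.trans hsO), Set.preimage_inter]
    exact (QuasiSeparatedSpace.inter_isCompact _ _ (hs.preimage O.ι.continuous) (hc' s hsO hsc)
      (ht.preimage O.ι.continuous) (hc' t htO htc)).image O.ι.continuous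
  have hVc : ∀ a : G.Opens, IsAffineOpen a → ∀ (O O' : G.Opens) [QuasiSeparatedSpace O'.toScheme],
      IsCompact (O : Set G) → IsCompact ((O : Set G) ∩ O') → (a : Set G) ⊆ O' → IsCompact ((a : Set G) ∩ O) :=
    fun a ha O O' _ _ hOO haO' => by
      have := hin O' a ((O : Set G) ∩ O') a.2 (O.2.inter O'.2) ha.isCompact hOO haO' Set.inter_subset_right
      rwa [Set.inter_comm (O : Set G), ← Set.inter_assoc, Set.inter_eq_left.2 haO'] at this
  have main : ∀ s : Set G, IsOpen s → IsCompact s → IsCompact (s ∩ V) ∧ IsCompact (s ∩ U) := by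
    intro s hs hsc
    suffices P : ∀ a : G.Opens, IsCompact (a : Set G) →
        IsCompact ((a : Set G) ∩ V) ∧ IsCompact ((a : Set G) ∩ U) from P ⟨s, hs⟩ hsc
    intro a hac
    have hb : ∀ x ∈ (a : Set G), ∃ b : G.Opens, IsAffineOpen b ∧ x ∈ b ∧ b ≤ a ∧
        ((b : Set G) ⊆ V ∨ (b : Set G) ⊆ U) := fun x hx => by
      rcases hcov x with h | h
      · obtain ⟨_, ⟨b : G.Opens, hb, rfl⟩, hxb, hle⟩ :=
          G.isBasis_affineOpens.exists_subset_of_mem_open (show x ∈ ((a ⊓ V : G.Opens) : Set G) from ⟨hx, h⟩)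
            (a ⊓ V).2
        exact ⟨b, hb, hxb, fun z hz => (hle hz).1, .inl fun z hz => (hle hz).2⟩
      · obtain ⟨_, ⟨b : G.Opens, hb, rfl⟩, hxb, hle⟩ :=
          G.isBasis_affineOpens.exists_subset_of_mem_open (show x ∈ ((a ⊓ U : G.Opens) : Set G) from ⟨hx, h⟩)
            (a ⊓ U).2
        exact ⟨b, hb, hxb, fun z hz => (hle hz).1, .inr fun z hz => (hle hz).2⟩
    choose b hb hxb hba hbVU using fun x : (a : Set G) => hb x x.2
    obtain ⟨t, ht⟩ := hac.elim_finite_subcover (fun x => ((b x : G.Opens) : Set G)) (fun x => (b x).2)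
      fun x hx => Set.mem_iUnion.2 ⟨⟨x, hx⟩, hxb _⟩
    have haeq : (a : Set G) = ⋃ x ∈ t, ((b x : G.Opens) : Set G) :=
      ht.antisymm (Set.iUnion₂_subset fun x _ => hba x)
    constructor
    · rw [haeq, Set.iUnion₂_inter]
      refine t.isCompact_biUnion fun x _ => ?_
      rcases hbVU x with h | h
      · rw [Set.inter_eq_left.2 h]; exact (hb x).isCompact
      · exact hVc _ (hb x) V U hV hc h
    · rw [haeq, Set.iUnion₂_inter]
      refine t.isCompact_biUnion fun x _ => ?_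
      rcases hbVU x with h | h
      · exact hVc _ (hb x) U V hU (by rwa [Set.inter_comm]) h
      · rw [Set.inter_eq_left.2 h]; exact (hb x).isCompact
  refine ⟨fun s t hs hsc ht htc => ?_⟩
  have e : s ∩ t = (s ∩ V) ∩ (t ∩ V) ∪ (s ∩ U) ∩ (t ∩ U) := by
    ext x
    constructor
    · rintro ⟨h1, h2⟩
      rcases hcov x with h | h
      · exact .inl ⟨⟨h1, h⟩, h2, h⟩
      · exact .inr ⟨⟨h1, h⟩, h2, h⟩
    · rintro (⟨⟨h1, -⟩, h2, -⟩ | ⟨⟨h1, -⟩, h2, -⟩) <;> exact ⟨h1, h2⟩
  rw [e]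
  exact (hin V _ _ (hs.inter V.2) (ht.inter V.2) (main s hs hsc).1 (main t ht htc).1
      Set.inter_subset_right Set.inter_subset_right).union
    (hin U _ _ (hs.inter U.2) (ht.inter U.2) (main s hs hsc).2 (main t ht htc).2
      Set.inter_subset_right Set.inter_subset_right)

variable {X S' S₀ : Scheme.{u}} (f : X ⟶ S') (π : S' ⟶ S₀)

/-- Gluing models of two opens along a model of the overlap. -/
theorem exists_model_glue (V U : X.Opens) (hVU : V ⊔ U = ⊤)
    {P Q R : Scheme.{u}} (a : P ⟶ S₀) (b : Q ⟶ S₀) (r₁ : R ⟶ P) (r₂ : R ⟶ Q) [IsOpenImmersion r₁]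
    [IsOpenImmersion r₂] [CompactSpace R] (hr : r₁ ≫ a = r₂ ≫ b)
    {qP : V.toScheme ⟶ P} {qQ : U.toScheme ⟶ Q} {qR : (V ⊓ U).toScheme ⟶ R}
    (hP : IsModel (V.ι ≫ f) π a qP) (hQ : IsModel (U.ι ≫ f) π b qQ)
    (hR₁ : qR ≫ r₁ = X.homOfLE inf_le_left ≫ qP) (hR₂ : qR ≫ r₂ = X.homOfLE inf_le_right ≫ qQ)
    (hR : IsPullback qR ((V ⊓ U).ι ≫ f) (r₁ ≫ a) π) :
    ∃ (G : Scheme.{u}) (g : G ⟶ S₀) (q : X ⟶ G), IsModel f π g q := by
  haveI := hP.compact
  haveI := hQ.compact
  haveI := hP.qs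
  haveI := hQ.qs
  haveI := hP.lfp
  haveI := hQ.lfp
  let iP : P ⟶ pushout r₁ r₂ := pushout.inl r₁ r₂
  let iQ : Q ⟶ pushout r₁ r₂ := pushout.inr r₁ r₂
  haveI : IsOpenImmersion iP := inferInstanceAs (IsOpenImmersion (colimit.ι (span r₁ r₂) WalkingSpan.left))
  haveI : IsOpenImmersion iQ := inferInstanceAs (IsOpenImmersion (colimit.ι (span r₁ r₂) WalkingSpan.right))
  have hw : r₁ ≫ iP = r₂ ≫ iQ := pushout.condition
  let g := pushout.desc a b hr
  have hgP : iP ≫ g = a := pushout.inl_desc _ _ _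
  have hgQ : iQ ≫ g = b := pushout.inr_desc _ _ _
  have hcov : ∀ z : ↥(pushout r₁ r₂), (∃ p, iP p = z) ∨ ∃ p, iQ p = z := fun z => by
    obtain ⟨j, p, hp⟩ := (Scheme.IsLocallyDirected.openCover (span r₁ r₂)).exists_eq z
    change colimit.ι (span r₁ r₂) j p = z at hp
    rcases j with _ | (_ | _)
    · refine .inl ⟨r₁ p, ?_⟩
      rw [← hp, ← Scheme.Hom.comp_apply]
      exact congrArg (fun m : R ⟶ pushout r₁ r₂ => m p) (colimit.w (span r₁ r₂) WalkingSpan.Hom.fst)
    · exact .inl ⟨p, hp⟩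
    · exact .inr ⟨p, hp⟩
  have hinter : ∀ p p', iP p = iQ p' → ∃ w, r₁ w = p ∧ r₂ w = p' := fun p p' h => by
    obtain ⟨k, fi, fj, w, h1, h2⟩ := (Scheme.IsLocallyDirected.ι_eq_ι_iff (span r₁ r₂)
      (i := WalkingSpan.left) (j := WalkingSpan.right) (xi := p) (xj := p')).1 h
    rcases k with _ | (_ | _)
    · rcases fi with _ | _
      rcases fj with _ | _
      exact ⟨w, h1, h2⟩
    · exact nomatch fj
    · exact nomatch fi
  have hcovO : iP.opensRange ⊔ iQ.opensRange = ⊤ := eq_top_iff.2 fun z _ => by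
    rcases hcov z with ⟨p, rfl⟩ | ⟨p, rfl⟩
    · exact Or.inl ⟨p, rfl⟩
    · exact Or.inr ⟨p, rfl⟩
  haveI : QuasiSeparatedSpace iP.opensRange.toScheme :=
    quasiSeparatedSpace_of_quasiSeparated iP.isoOpensRange.inv
  haveI : QuasiSeparatedSpace iQ.opensRange.toScheme :=
    quasiSeparatedSpace_of_quasiSeparated iQ.isoOpensRange.inv
  have hint : Set.range iP ∩ Set.range iQ = Set.range (r₁ ≫ iP) := by
    ext z
    constructor
    · rintro ⟨⟨p, rfl⟩, p', hp'⟩
      obtain ⟨w, rfl, -⟩ := hinter p p' hp'.symm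
      exact ⟨w, Scheme.Hom.comp_apply _ _ _⟩
    · rintro ⟨w, rfl⟩
      refine ⟨⟨r₁ w, (Scheme.Hom.comp_apply _ _ _).symm⟩, r₂ w, ?_⟩
      rw [hw]
      exact (Scheme.Hom.comp_apply _ _ _).symm
  haveI hqs : QuasiSeparatedSpace ↥(pushout r₁ r₂) := quasiSeparatedSpace_of_two iP.opensRange iQ.opensRange hcovO
    (isCompact_range iP.continuous) (isCompact_range iQ.continuous) (by
      rw [Scheme.Hom.coe_opensRange, Scheme.Hom.coe_opensRange, hint]
      exact isCompact_range (r₁ ≫ iP).continuous)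
  have hcompact : CompactSpace ↥(pushout r₁ r₂) := ⟨by
    rw [show (Set.univ : Set ↥(pushout r₁ r₂)) = Set.range iP ∪ Set.range iQ from
      (Set.eq_univ_of_forall fun z => hcov z).symm]
    exact (isCompact_range iP.continuous).union (isCompact_range iQ.continuous)⟩
  have hlfp : LocallyOfFinitePresentation g := by
    refine IsZariskiLocalAtSource.of_openCover (Scheme.IsLocallyDirected.openCover (span r₁ r₂)) fun j => ?_
    show LocallyOfFinitePresentation (colimit.ι (span r₁ r₂) j ≫ g)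
    rcases j with _ | (_ | _)
    · rw [show colimit.ι (span r₁ r₂) WalkingSpan.zero ≫ g = r₁ ≫ a by
        rw [← colimit.w (span r₁ r₂) WalkingSpan.Hom.fst, Category.assoc]
        exact congrArg (r₁ ≫ ·) hgP]
      infer_instance
    · exact (show LocallyOfFinitePresentation (iP ≫ g) by rw [hgP]; infer_instance)
    · exact (show LocallyOfFinitePresentation (iQ ≫ g) by rw [hgQ]; infer_instance)
  -- the map from `X`
  let 𝒰 := X.openCoverOfIsOpenCover (fun t : Bool => bif t then V else U) (by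
    rw [IsOpenCover, ← hVU, iSup_bool_eq]
    rfl)
  have hq₀ : X.homOfLE (inf_le_left : V ⊓ U ≤ V) ≫ qP ≫ iP = X.homOfLE (inf_le_right : V ⊓ U ≤ U) ≫ qQ ≫ iQ := by
    rw [← reassoc_of% hR₁, ← reassoc_of% hR₂, hw]
  let q : X ⟶ pushout r₁ r₂ := 𝒰.glueMorphisms
    (fun t => match t with | true => qP ≫ iP | false => qQ ≫ iQ) (by
      rintro (_ | _) (_ | _)
      · exact congrArg (· ≫ _) ((cancel_mono U.ι).1 pullback.condition)
      · rw [← cancel_epi (isPullback_opens_inf U V).isoPullback.hom]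
        erw [IsPullback.isoPullback_hom_fst_assoc, IsPullback.isoPullback_hom_snd_assoc]
        rw [← cancel_epi (X.isoOfEq (inf_comm V U)).hom]
        simp only [Scheme.isoOfEq_hom, Scheme.homOfLE_homOfLE_assoc]
        exact hq₀.symm
      · rw [← cancel_epi (isPullback_opens_inf V U).isoPullback.hom]
        erw [IsPullback.isoPullback_hom_fst_assoc, IsPullback.isoPullback_hom_snd_assoc]
        exact hq₀
      · exact congrArg (· ≫ _) ((cancel_mono V.ι).1 pullback.condition))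
  have hqV : V.ι ≫ q = qP ≫ iP := 𝒰.ι_glueMorphisms _ _ true
  have hqU : U.ι ≫ q = qQ ≫ iQ := 𝒰.ι_glueMorphisms _ _ false
  have hqw : q ≫ g = f ≫ π := by
    refine 𝒰.hom_ext _ _ fun t => ?_
    rcases t with _ | _
    · show U.ι ≫ q ≫ g = U.ι ≫ f ≫ π
      rw [reassoc_of% hqU, hgQ, hQ.isPullback.w, Category.assoc]
    · show V.ι ≫ q ≫ g = V.ι ≫ f ≫ π
      rw [reassoc_of% hqV, hgP, hP.isPullback.w, Category.assoc]
  -- comparison with the pullback
  let θ : X ⟶ pullback g π := pullback.lift q f hqw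
  have piece : ∀ {O : X.Opens} {A : Scheme.{u}} (i : A ⟶ pushout r₁ r₂) [IsOpenImmersion i] (qA : O.toScheme ⟶ A),
      O.ι ≫ q = qA ≫ i → IsPullback qA (O.ι ≫ f) (i ≫ g) π →
      IsOpenImmersion (O.ι ≫ θ) ∧ ∀ z, pullback.fst g π z ∈ Set.range i → ∃ x : O.toScheme, (O.ι ≫ θ) x = z := by
    intro O A i _ qA h1 h2
    have hsq : IsPullback qA (O.ι ≫ θ) i (pullback.fst g π) := by
      refine IsPullback.of_bot ?_ (by rw [Category.assoc, pullback.lift_fst, h1]) (IsPullback.of_hasPullback g π)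
      rw [Category.assoc, pullback.lift_snd]
      exact h2
    refine ⟨MorphismProperty.of_isPullback hsq inferInstance, fun z hz => ?_⟩
    obtain ⟨p, hp⟩ := hz
    obtain ⟨w, -, hw₂⟩ := Scheme.Pullback.exists_preimage_pullback (f := i) (g := pullback.fst g π) p z hp
    refine ⟨hsq.isoPullback.inv w, ?_⟩
    rw [← Scheme.Hom.comp_apply, hsq.isoPullback_inv_snd]
    exact hw₂
  obtain ⟨hθV, hsV⟩ := piece iP qP hqV (by rw [hgP]; exact hP.isPullback)
  obtain ⟨hθU, hsU⟩ := piece iQ qQ hqU (by rw [hgQ]; exact hQ.isPullback)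
  have hmem : ∀ x : X, x ∈ V ∨ x ∈ U := fun x => by
    have : x ∈ V ⊔ U := by rw [hVU]; trivial
    exact this
  -- a point of `U` going to the overlap lies in `V`
  have hUV : ∀ x : U.toScheme, q (U.ι x) ∈ Set.range iP → U.ι x ∈ V := by
    rintro x ⟨p, hp⟩
    rw [← Scheme.Hom.comp_apply, hqU, Scheme.Hom.comp_apply] at hp
    obtain ⟨w, -, hw₂⟩ := hinter p (qQ x) hp
    have hsq : IsPullback qR (X.homOfLE inf_le_right) r₂ qQ := by
      refine IsPullback.of_bot ?_ hR₂ hQ.isPullback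
      rw [← hr, Scheme.homOfLE_ι_assoc]
      exact hR
    obtain ⟨z, -, hz⟩ := Scheme.Pullback.exists_preimage_pullback (f := r₂) (g := qQ) w x hw₂
    have e : U.ι x = (V ⊓ U).ι (hsq.isoPullback.inv z) := by
      rw [← hz, ← hsq.isoPullback_inv_snd, ← Scheme.Hom.comp_apply, ← Scheme.Hom.comp_apply, Category.assoc,
        Scheme.homOfLE_ι]
    rw [e]
    exact ((hsq.isoPullback.inv z).2).1
  have hθq : ∀ x, pullback.fst g π (θ x) = q x := fun x => by
    rw [← Scheme.Hom.comp_apply, pullback.lift_fst]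
  have hqVmem : ∀ x : X, x ∈ V → q x ∈ Set.range iP := fun x hx => ⟨qP ⟨x, hx⟩, by
    rw [← Scheme.Hom.comp_apply, ← hqV]; rfl⟩
  have inV : ∀ x : X, q x ∈ Set.range iP → x ∈ V := fun x hx => by
    rcases hmem x with h | h
    · exact h
    · exact hUV ⟨x, h⟩ hx
  have hinj : Function.Injective θ := by
    intro x y hxy
    rcases hmem x with hx | hx
    · have hy : y ∈ V := inV y (by rw [← hθq, ← hxy, hθq]; exact hqVmem x hx)
      exact congrArg V.ι (hθV.base_open.injective (a₁ := ⟨x, hx⟩) (a₂ := ⟨y, hy⟩) hxy)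
    · rcases hmem y with hy | hy
      · have hx : x ∈ V := inV x (by rw [← hθq, hxy, hθq]; exact hqVmem y hy)
        exact congrArg V.ι (hθV.base_open.injective (a₁ := ⟨x, hx⟩) (a₂ := ⟨y, hy⟩) hxy)
      · exact congrArg U.ι (hθU.base_open.injective (a₁ := ⟨x, hx⟩) (a₂ := ⟨y, hy⟩) hxy)
  have hsurj : ∀ z, ∃ x, θ x = z := fun z => by
    rcases hcov (pullback.fst g π z) with ⟨p, hp⟩ | ⟨p, hp⟩
    · obtain ⟨x, hx⟩ := hsV z ⟨p, hp⟩
      exact ⟨V.ι x, hx⟩
    · obtain ⟨x, hx⟩ := hsU z ⟨p, hp⟩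
      exact ⟨U.ι x, hx⟩
  have hstalk : ∀ x, IsIso (θ.stalkMap x) := fun x => by
    rcases hmem x with h | h
    · have h2 : IsIso ((V.ι ≫ θ).stalkMap ⟨x, h⟩) := inferInstance
      rw [Scheme.Hom.stalkMap_comp] at h2
      exact @IsIso.of_isIso_comp_right _ _ _ _ _ (θ.stalkMap x) (V.ι.stalkMap ⟨x, h⟩) _ h2
    · have h2 : IsIso ((U.ι ≫ θ).stalkMap ⟨x, h⟩) := inferInstance
      rw [Scheme.Hom.stalkMap_comp] at h2
      exact @IsIso.of_isIso_comp_right _ _ _ _ _ (θ.stalkMap x) (U.ι.stalkMap ⟨x, h⟩) _ h2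
  have hopen : IsOpenMap θ := by
    intro s hs
    have e : θ '' s = (V.ι ≫ θ) '' (V.ι ⁻¹' s) ∪ (U.ι ≫ θ) '' (U.ι ⁻¹' s) := by
      ext z
      constructor
      · rintro ⟨x, hx, rfl⟩
        rcases hmem x with h | h
        · exact .inl ⟨⟨x, h⟩, hx, rfl⟩
        · exact .inr ⟨⟨x, h⟩, hx, rfl⟩
      · rintro (⟨w, hw', rfl⟩ | ⟨w, hw', rfl⟩)
        · exact ⟨_, hw', rfl⟩
        · exact ⟨_, hw', rfl⟩
    rw [e]
    exact ((V.ι ≫ θ).isOpenEmbedding.isOpenMap _ (hs.preimage V.ι.continuous)).union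
      ((U.ι ≫ θ).isOpenEmbedding.isOpenMap _ (hs.preimage U.ι.continuous))
  haveI : IsOpenImmersion θ :=
    IsOpenImmersion.of_isIso_stalkMap θ (.of_continuous_injective_isOpenMap θ.continuous hinj hopen)
  haveI : IsIso θ := isIso_of_isOpenImmersion_of_opensRange_eq_top θ (eq_top_iff.2 fun z _ => hsurj z)
  exact ⟨_, g, q, hcompact, hqs, hlfp, IsPullback.of_iso_pullback ⟨hqw⟩ (asIso θ)
    (pullback.lift_fst _ _ _) (pullback.lift_snd _ _ _)⟩

end Groth.Agent.FPModelLib
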