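import Groth.Agent.FPModelLib.Affine
import Groth.Agent.FPModelLib.Model
import Groth.Agent.FPModelLib.Glue
import Groth.Agent.AffLim.DescendMore
import Groth.Agent.FlatStage.Point

/-!
# Schemes of finite presentation over a limit of qcqs schemes come from a stage
-/

set_option autoImplicit false
set_option backward.isDefEq.respectTransparency false
set_option backward.defeqAttrib.useBackward true
set_option linter.style.haveILetI false
set_option linter.unusedSectionVars false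

universe u

open CategoryTheory CategoryTheory.Limits AlgebraicGeometry TopologicalSpace

noncomputable section

namespace Groth.Agent.FPModelLib.Gen

variable {I : Type u} [SmallCategory I] [IsCofiltered I] (D : I ⥤ Scheme.{u}) (c : Cone D)
  (hc : IsLimit c) [∀ {i j} (a : i ⟶ j), IsAffineHom (D.map a)]

variable [∀ i, CompactSpace (D.obj i)] [∀ i, QuasiSeparatedSpace (D.obj i)]

include hc in
/-- A compact open of a modelled scheme is modelled by an open of a later stage. -/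
theorem exists_open_model {X G : Scheme.{u}} {f : X ⟶ c.pt} {i : I} {g : G ⟶ D.obj i} {q : X ⟶ G}
    (h : IsModel f (c.π.app i) g q) (W : X.Opens) (hW : IsCompact (W : Set X)) :
    ∃ (k : Over i) (W₀ : ((AffLim.baseChange D i g).obj k).Opens) (qW : W.toScheme ⟶ W₀.toScheme),
      qW ≫ W₀.ι = W.ι ≫ FlatStage.vMap D c i g h.isPullback k ∧
      IsModel (W.ι ≫ f) (c.π.app k.left) (W₀.ι ≫ pullback.snd g (D.map k.hom)) qW := by
  haveI := h.compact
  haveI := h.qs
  obtain ⟨hcX⟩ := FlatStage.nonempty_isLimit_vCone D c i g h.isPullback hc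
  obtain ⟨k, W₀, hW₀, e⟩ := exists_preimage_eq (AffLim.baseChange D i g)
    (FlatStage.vCone D c i g h.isPullback) hcX W hW
  have hk := h.stage D c k
  haveI := hk.compact
  haveI := hk.qs
  haveI := hk.lfp
  obtain rfl : FlatStage.vMap D c i g h.isPullback k ⁻¹ᵁ W₀ = W := e
  haveI : QuasiSeparatedSpace W₀.toScheme := QuasiSeparatedSpace.of_isOpenEmbedding W₀.ι.isOpenEmbedding
  refine ⟨k, W₀, FlatStage.vMap D c i g h.isPullback k ∣_ W₀, morphismRestrict_ι _ _,
    isCompact_iff_compactSpace.1 hW₀, inferInstance, inferInstance, ?_⟩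
  exact (isPullback_morphismRestrict _ W₀).paste_vert hk.isPullback

include hc in
/-- A morphism between modelled schemes comes from a later stage. -/
theorem exists_hom_stage {W U R Q : Scheme.{u}} {fW : W ⟶ c.pt} {fU : U ⟶ c.pt} {i : I}
    {a : R ⟶ D.obj i} {b : Q ⟶ D.obj i} {qW : W ⟶ R} {qU : U ⟶ Q}
    (hR : IsModel fW (c.π.app i) a qW) (hQ : IsModel fU (c.π.app i) b qU) (m : W ⟶ U) (hm : m ≫ fU = fW) :
    ∃ (k : Over i) (mk : (AffLim.baseChange D i a).obj k ⟶ (AffLim.baseChange D i b).obj k),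
      mk ≫ pullback.snd b (D.map k.hom) = pullback.snd a (D.map k.hom) ∧
      FlatStage.vMap D c i a hR.isPullback k ≫ mk = m ≫ FlatStage.vMap D c i b hQ.isPullback k := by
  haveI := hR.compact
  haveI := hR.qs
  haveI := hQ.lfp
  obtain ⟨hcX⟩ := FlatStage.nonempty_isLimit_vCone D c i a hR.isPullback hc
  let t : AffLim.baseChange D i a ⟶ (Functor.const (Over i)).obj (D.obj i) :=
    { app := fun k => pullback.fst a (D.map k.hom) ≫ a
      naturality := fun k l φ => by simp [pullback.map] }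
  obtain ⟨k, g', hg₁, hg₂⟩ := Scheme.exists_π_app_comp_eq_of_locallyOfFinitePresentation
    (AffLim.baseChange D i a) t b (FlatStage.vCone D c i a hR.isPullback) hcX (m ≫ qU) (by
      ext k : 2
      simp only [NatTrans.comp_app, Functor.const_map_app, t]
      show FlatStage.vMap D c i a hR.isPullback k ≫ pullback.fst a (D.map k.hom) ≫ a = (m ≫ qU) ≫ b
      rw [FlatStage.vMap_fst_assoc, hR.isPullback.w, Category.assoc, hQ.isPullback.w, reassoc_of% hm])
  change FlatStage.vMap D c i a hR.isPullback k ≫ g' = m ≫ qU at hg₁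
  refine ⟨k, pullback.lift g' (pullback.snd a (D.map k.hom)) (hg₂.trans pullback.condition),
    pullback.lift_snd _ _ _, ?_⟩
  apply pullback.hom_ext
  · rw [Category.assoc, pullback.lift_fst, Category.assoc, FlatStage.vMap_fst, hg₁]
  · rw [Category.assoc, pullback.lift_snd, Category.assoc, FlatStage.vMap_snd, FlatStage.vMap_snd, reassoc_of% hm]

include hc in
/-- A model of the union of two opens with models. -/
theorem exists_model_union {X : Scheme.{u}} (f : X ⟶ c.pt) [QuasiSeparatedSpace X] (V U : X.Opens)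
    (hVU : V ⊔ U = ⊤) (hVc : IsCompact (V : Set X)) (hUc : IsCompact (U : Set X))
    {i j : I} {P Q : Scheme.{u}} {a : P ⟶ D.obj i} {b : Q ⟶ D.obj j} {qP : V.toScheme ⟶ P} {qQ : U.toScheme ⟶ Q}
    (hP : IsModel (V.ι ≫ f) (c.π.app i) a qP) (hQ : IsModel (U.ι ≫ f) (c.π.app j) b qQ) :
    ∃ (k : I) (G : Scheme.{u}) (g : G ⟶ D.obj k) (q : X ⟶ G), IsModel f (c.π.app k) g q := by
  -- the overlap as a compact open of the first piece
  let W' : V.toScheme.Opens := V.ι ⁻¹ᵁ U
  have hW'c : IsCompact (W' : Set V.toScheme) := by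
    rw [V.ι.isOpenEmbedding.isEmbedding.isCompact_iff]
    show IsCompact (V.ι '' (V.ι ⁻¹' (U : Set X)))
    rw [Set.image_preimage_eq_inter_range, Scheme.Opens.range_ι, Set.inter_comm]
    exact QuasiSeparatedSpace.inter_isCompact _ _ V.2 hVc U.2 hUc
  obtain ⟨i', hi'i, hi'j, -⟩ : ∃ (i' : I) (_ : i' ⟶ i) (_ : i' ⟶ j), True :=
    ⟨IsCofiltered.min i j, IsCofiltered.minToLeft i j, IsCofiltered.minToRight i j, trivial⟩
  have hP₁ := hP.stage D c (Over.mk hi'i)
  have hQ₁ := hQ.stage D c (Over.mk hi'j)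
  obtain ⟨k₀, W₀, qW₀, hW₀, hR₀⟩ := exists_open_model D c hc hP₁ W' hW'c
  have hP₂ := hP₁.stage D c k₀
  have hQ₂ := hQ₁.stage D c k₀
  let l : (V ⊓ U).toScheme ⟶ W'.toScheme := IsOpenImmersion.lift W'.ι (X.homOfLE inf_le_left) (by
    rw [Scheme.Opens.range_ι]
    rintro _ ⟨z, rfl⟩
    show V.ι (X.homOfLE inf_le_left z) ∈ U
    rw [← Scheme.Hom.comp_apply, Scheme.homOfLE_ι]
    exact z.2.2)
  have hl : l ≫ W'.ι = X.homOfLE inf_le_left := IsOpenImmersion.lift_fac _ _ _
  haveI : IsOpenImmersion l := by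
    haveI : IsOpenImmersion (l ≫ W'.ι) := by rw [hl]; infer_instance
    exact IsOpenImmersion.of_comp l W'.ι
  haveI : IsIso l := by
    refine isIso_of_isOpenImmersion_of_opensRange_eq_top l (eq_top_iff.2 fun z _ => ?_)
    refine ⟨⟨V.ι (W'.ι z), (W'.ι z).2, z.2⟩, ?_⟩
    refine W'.ι.isOpenEmbedding.injective (V.ι.isOpenEmbedding.injective ?_)
    show ((l ≫ W'.ι) ≫ V.ι) _ = _
    rw [hl, Scheme.homOfLE_ι]
    rfl
  have hR₁ : IsModel ((V ⊓ U).ι ≫ f) (c.π.app k₀.left)
      (W₀.ι ≫ pullback.snd (pullback.snd a (D.map hi'i)) (D.map k₀.hom)) (l ≫ qW₀) :=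
    ⟨hR₀.compact, hR₀.qs, hR₀.lfp, hR₀.isPullback.of_iso (asIso l).symm (Iso.refl _) (Iso.refl _) (Iso.refl _)
      (by simp) (by simp [reassoc_of% hl]) (by simp) (by simp)⟩
  obtain ⟨k₁, mk, hmk₁, hmk₂⟩ := exists_hom_stage D c hc hR₁ hQ₂ (X.homOfLE inf_le_right)
    (by rw [Scheme.homOfLE_ι_assoc])
  have hP₃ := hP₂.stage D c k₁
  have hQ₃ := hQ₂.stage D c k₁
  have hR₂ := hR₁.stage D c k₁
  haveI := hR₂.compact
  haveI := hR₂.qs
  haveI := hR₂.lfp
  haveI := hQ₃.compact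
  haveI := hQ₃.qs
  haveI := hQ₃.lfp
  haveI : LocallyOfFinitePresentation mk :=
    ASp.locallyOfFinitePresentation_of_comp mk (pullback.snd _ (D.map k₁.hom))
      (by rw [hmk₁]; exact hR₂.lfp) inferInstance
  haveI := hR₁.compact
  haveI := hR₁.qs
  haveI := hQ₂.compact
  haveI := hQ₂.qs
  have hX := hR₂.isPullback
  rw [← hmk₁] at hX
  have hsq : IsPullback _ (X.homOfLE inf_le_right) mk _ :=
    IsPullback.of_bot (by rw [Scheme.homOfLE_ι_assoc]; exact hX) hmk₂ hQ₃.isPullback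
  obtain ⟨k, hk⟩ := AffLim.exists_isOpenImmersion_baseChange D c hc k₁.left mk _ hQ₃.isPullback hsq
  let r₀ := (AffLim.baseChangeMap D k₀.left W₀.ι
    (pullback.snd (pullback.snd a (D.map hi'i)) (D.map k₀.hom))).app k₁
  haveI : IsOpenImmersion r₀ := AffLim.prop_baseChangeMap D _ _ _ @IsOpenImmersion inferInstance k₁
  have hr₀ : r₀ ≫ pullback.snd _ (D.map k₁.hom) = pullback.snd _ (D.map k₁.hom) := by
    simp [r₀, AffLim.baseChangeMap, pullback.map]
  let A₃ := pullback.snd (pullback.snd (pullback.snd a (D.map hi'i)) (D.map k₀.hom)) (D.map k₁.hom)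
  let B₃ := pullback.snd (pullback.snd (pullback.snd b (D.map hi'j)) (D.map k₀.hom)) (D.map k₁.hom)
  let r₁ := (AffLim.baseChangeMap D k₁.left r₀ A₃).app k
  haveI : IsOpenImmersion r₁ := AffLim.prop_baseChangeMap D _ _ _ @IsOpenImmersion inferInstance k
  let r₂ := (AffLim.baseChangeMap D k₁.left mk B₃).app k
  haveI : IsOpenImmersion r₂ := hk
  have e : mk ≫ B₃ = r₀ ≫ A₃ := hmk₁.trans hr₀.symm
  let cg := pullback.congrHom (f₁ := r₀ ≫ A₃) (g₁ := D.map k.hom) e.symm rfl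
  have hR₂' : IsModel ((V ⊓ U).ι ≫ f) (c.π.app k₁.left) (r₀ ≫ A₃)
      (FlatStage.vMap D c k₀.left _ hR₁.isPullback k₁) := by rw [hr₀]; exact hR₂
  have hR₃ := hR₂'.stage D c k
  haveI := hR₃.compact
  have h₁ : r₁ ≫ pullback.snd A₃ (D.map k.hom) = pullback.snd (r₀ ≫ A₃) (D.map k.hom) := by
    simp [r₁, AffLim.baseChangeMap, pullback.map]
  have eP₁ : FlatStage.vMap D c k₁.left A₃ hP₃.isPullback k ≫ pullback.fst A₃ (D.map k.hom) =
      FlatStage.vMap D c k₀.left _ hP₂.isPullback k₁ := FlatStage.vMap_fst _ _ _ _ _ _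
  have eP₂ : FlatStage.vMap D c k₁.left A₃ hP₃.isPullback k ≫ pullback.snd A₃ (D.map k.hom) =
      (V.ι ≫ f) ≫ c.π.app k.left := FlatStage.vMap_snd _ _ _ _ _ _
  have eQ₁ : FlatStage.vMap D c k₁.left B₃ hQ₃.isPullback k ≫ pullback.fst B₃ (D.map k.hom) =
      FlatStage.vMap D c k₀.left _ hQ₂.isPullback k₁ := FlatStage.vMap_fst _ _ _ _ _ _
  have eQ₂ : FlatStage.vMap D c k₁.left B₃ hQ₃.isPullback k ≫ pullback.snd B₃ (D.map k.hom) =
      (U.ι ≫ f) ≫ c.π.app k.left := FlatStage.vMap_snd _ _ _ _ _ _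
  obtain ⟨G, g, q, hm⟩ := exists_model_glue f (c.π.app k.left) V U hVU (pullback.snd A₃ (D.map k.hom))
    (pullback.snd B₃ (D.map k.hom)) r₁ (cg.hom ≫ r₂)
    (by
      rw [h₁]
      simp [r₂, cg, AffLim.baseChangeMap, pullback.map])
    (qP := FlatStage.vMap D c k₁.left A₃ hP₃.isPullback k) (qQ := FlatStage.vMap D c k₁.left B₃ hQ₃.isPullback k)
    (qR := FlatStage.vMap D c k₁.left _ hR₂'.isPullback k) (hP₃.stage D c k) (hQ₃.stage D c k)
    (by
      apply pullback.hom_ext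
      · rw [Category.assoc, Category.assoc, eP₁]
        simp [r₁, r₀, AffLim.baseChangeMap, pullback.map]
        apply pullback.hom_ext
        · simp [reassoc_of% hW₀, hW₀, reassoc_of% hl]
        · simp [Scheme.homOfLE_ι_assoc]
      · rw [Category.assoc, Category.assoc, eP₂]
        simp [r₁, AffLim.baseChangeMap, pullback.map, Scheme.homOfLE_ι_assoc])
    (by
      apply pullback.hom_ext
      · simp only [Category.assoc]; rw [eQ₁]
        simp [r₂, cg, AffLim.baseChangeMap, pullback.map]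
        exact hmk₂
      · simp only [Category.assoc]; rw [eQ₂]
        simp [r₂, cg, AffLim.baseChangeMap, pullback.map, Scheme.homOfLE_ι_assoc])
    (by rw [h₁]; exact hR₃.isPullback)
  exact ⟨k.left, G, g, q, hm⟩

include hc in
/-- An affine scheme over an affine open from a stage has a model. -/
theorem exists_small_model {i₀ : I} (V : (D.obj i₀).Opens) (hV : IsAffineOpen V) {O : Scheme.{u}} [IsAffine O]
    (g : O ⟶ c.pt) [LocallyOfFinitePresentation g] (hg : Set.range g ⊆ (c.π.app i₀ ⁻¹ᵁ V : c.pt.Opens)) :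
    ∃ (i : I) (G : Scheme.{u}) (g₀ : G ⟶ D.obj i) (q : O ⟶ G), IsModel g (c.π.app i) g₀ q := by
  let E := opensDiagram D i₀ V
  let cE := opensCone D c i₀ V
  haveI : ∀ j, IsAffine (E.obj j) := fun j => hV.preimage (D.map j.hom)
  let W : c.pt.Opens := c.π.app i₀ ⁻¹ᵁ V
  let g' : O ⟶ W.toScheme := IsOpenImmersion.lift W.ι g (by rw [Scheme.Opens.range_ι]; exact hg)
  have hg' : g' ≫ W.ι = g := IsOpenImmersion.lift_fac _ _ _
  haveI : LocallyOfFinitePresentation g' := by
    have : LocallyOfFinitePresentation (g' ≫ W.ι) := by rw [hg']; infer_instance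
    exact FlatLocus.locallyOfFinitePresentation_of_comp g' W.ι
  obtain ⟨j, U₀, f₀, q, hU₀, hf₀, hsq⟩ := exists_affine_model E cE (isLimitOpensCone D c hc i₀ V) g'
  let V' := D.map j.hom ⁻¹ᵁ V
  let f₁ : U₀ ⟶ D.obj j.left := f₀ ≫ V'.ι
  refine ⟨j.left, U₀, f₁, q, inferInstance, inferInstance, inferInstance, ?_⟩
  have e : c.π.app j.left ⁻¹ᵁ V' = W := by
    show c.π.app j.left ⁻¹ᵁ (D.map j.hom ⁻¹ᵁ V) = c.π.app i₀ ⁻¹ᵁ V
    rw [← Scheme.Hom.comp_preimage, c.w]
  have sq2 : IsPullback (cE.π.app j) W.ι V'.ι (c.π.app j.left) :=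
    IsOpenImmersion.isPullback _ _ _ _ (Scheme.Hom.resLE_comp_ι _ _).symm (by simpa using e)
  rw [← hg']
  exact hsq.paste_vert sq2

include hc in
/-- Schemes of finite presentation over a limit of qcqs schemes come from a stage. -/
theorem exists_model {X : Scheme.{u}} (f : X ⟶ c.pt) [CompactSpace X] [QuasiSeparatedSpace X]
    [LocallyOfFinitePresentation f] :
    ∃ (i : I) (G : Scheme.{u}) (g : G ⟶ D.obj i) (q : X ⟶ G), IsModel f (c.π.app i) g q := by
  classical
  haveI : Nonempty I := IsCofiltered.nonempty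
  let i₀ : I := Classical.arbitrary I
  have hcov : ∀ x : X, ∃ (V : (D.obj i₀).Opens) (O : X.Opens), IsAffineOpen V ∧ IsAffineOpen O ∧ x ∈ O ∧
      O ≤ f ⁻¹ᵁ (c.π.app i₀ ⁻¹ᵁ V) := fun x => by
    obtain ⟨_, ⟨V, hV, rfl⟩, hxV, -⟩ :=
      (D.obj i₀).isBasis_affineOpens.exists_subset_of_mem_open (Set.mem_univ (c.π.app i₀ (f x))) isOpen_univ
    obtain ⟨_, ⟨O, hO, rfl⟩, hxO, hle⟩ := X.isBasis_affineOpens.exists_subset_of_mem_open
      (show x ∈ ((f ⁻¹ᵁ (c.π.app i₀ ⁻¹ᵁ V) : X.Opens) : Set X) from hxV) (Opens.isOpen _)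
    exact ⟨V, O, hV, hO, hxO, hle⟩
  choose V O hV hO hxO hle using hcov
  obtain ⟨t, ht⟩ := isCompact_univ.elim_finite_subcover (fun x => (O x : Set X)) (fun x => (O x).isOpen)
    fun x _ => Set.mem_iUnion.2 ⟨x, hxO x⟩
  let P : X.Opens → Prop := fun T => IsCompact (T : Set X) ∧
    ∃ (i : I) (G : Scheme.{u}) (g : G ⟶ D.obj i) (q : T.toScheme ⟶ G), IsModel (T.ι ≫ f) (c.π.app i) g q
  have small : ∀ x, P (O x) := fun x => by
    haveI : IsAffine (O x).toScheme := hO x
    refine ⟨(hO x).isCompact, exists_small_model D c hc (V x) (hV x) ((O x).ι ≫ f) ?_⟩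
    rintro _ ⟨z, rfl⟩
    rw [Scheme.Hom.comp_apply]
    exact hle x z.2
  have hbot : P ⊥ := by
    haveI : IsAffine (⊥ : X.Opens).toScheme := isAffineOpen_bot X
    refine ⟨(isAffineOpen_bot X).isCompact, exists_small_model D c hc (i₀ := i₀) (⊥ : (D.obj i₀).Opens) (isAffineOpen_bot _) ((⊥ : X.Opens).ι ≫ f) ?_⟩
    rintro _ ⟨z, rfl⟩
    exact (Set.notMem_empty _ (show (z.1 : X) ∈ (∅ : Set X) from z.2)).elim
  have hstep : ∀ (S : X.Opens) (x : X), P S → P (S ⊔ O x) := by
    rintro S x ⟨hS, i, G, g, q, h⟩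
    obtain ⟨hUc, j, H, b, r, hb⟩ := small x
    let W := S ⊔ O x
    have hOc : IsCompact (W : Set X) := by
      show IsCompact ((S : Set X) ∪ ((O x) : Set X))
      exact hS.union hUc
    refine ⟨hOc, ?_⟩
    haveI : QuasiSeparatedSpace W.toScheme := QuasiSeparatedSpace.of_isOpenEmbedding W.ι.isOpenEmbedding
    let V' : W.toScheme.Opens := W.ι ⁻¹ᵁ S
    let U' : W.toScheme.Opens := W.ι ⁻¹ᵁ (O x)
    have cpt : ∀ (T : X.Opens), T ≤ W → IsCompact (T : Set X) → IsCompact ((W.ι ⁻¹ᵁ T : W.toScheme.Opens) : Set W.toScheme) :=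
      fun T hT hTc => by
        rw [W.ι.isOpenEmbedding.isEmbedding.isCompact_iff]
        show IsCompact (W.ι '' (W.ι ⁻¹' (T : Set X)))
        rw [Set.image_preimage_eq_of_subset (by rw [Scheme.Opens.range_ι]; exact hT)]
        exact hTc
    have mdl : ∀ (T : X.Opens) (hT : T ≤ W) {i : I} {G : Scheme.{u}} {g : G ⟶ D.obj i} {q : T.toScheme ⟶ G},
        IsModel (T.ι ≫ f) (c.π.app i) g q →
        ∃ q' : (W.ι ⁻¹ᵁ T).toScheme ⟶ G, IsModel ((W.ι ⁻¹ᵁ T).ι ≫ W.ι ≫ f) (c.π.app i) g q' := by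
      intro T hT i G g q hm
      let T' := W.ι ⁻¹ᵁ T
      let e : T'.toScheme ⟶ T.toScheme := IsOpenImmersion.lift T.ι (T'.ι ≫ W.ι) (by
        rw [Scheme.Opens.range_ι]
        rintro _ ⟨z, rfl⟩
        exact z.2)
      have he : e ≫ T.ι = T'.ι ≫ W.ι := IsOpenImmersion.lift_fac _ _ _
      haveI : IsOpenImmersion e := by
        haveI : IsOpenImmersion (e ≫ T.ι) := by rw [he]; infer_instance
        exact IsOpenImmersion.of_comp e T.ι
      haveI : IsIso e := by
        refine isIso_of_isOpenImmersion_of_opensRange_eq_top e (eq_top_iff.2 fun z _ => ?_)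
        refine ⟨⟨⟨T.ι z, hT z.2⟩, z.2⟩, T.ι.isOpenEmbedding.injective ?_⟩
        show (e ≫ T.ι) _ = _
        rw [he]
        rfl
      exact ⟨e ≫ q, hm.compact, hm.qs, hm.lfp, hm.isPullback.of_iso (asIso e).symm (Iso.refl _) (Iso.refl _)
        (Iso.refl _) (by simp) (by simp [T', reassoc_of% he]) (by simp) (by simp)⟩
    obtain ⟨q₁, h₁⟩ := mdl S le_sup_left h
    obtain ⟨q₂, h₂⟩ := mdl (O x) le_sup_right hb
    refine exists_model_union D c hc (W.ι ≫ f) V' U' ?_ (cpt S le_sup_left hS) (cpt (O x) le_sup_right hUc) h₁ h₂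
    exact eq_top_iff.2 fun z _ => z.2
  obtain ⟨-, i, G, g, q, h⟩ : P ⊤ := by
    have e : t.sup O = ⊤ := eq_top_iff.2 fun x _ => by
      obtain ⟨y, hy, hxy⟩ := Set.mem_iUnion₂.1 (ht (Set.mem_univ x))
      exact Finset.le_sup (f := O) hy hxy
    rw [← e]
    clear e ht
    induction t using Finset.induction with
    | empty => simpa using hbot
    | insert x s _ ih =>
      rw [Finset.sup_insert, sup_comm]
      exact hstep _ x ih
  refine ⟨i, G, g, X.topIso.inv ≫ q, h.compact, h.qs, h.lfp, ?_⟩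
  exact h.isPullback.of_iso X.topIso (Iso.refl _) (Iso.refl _) (Iso.refl _) (by simp) (by simp) (by simp) (by simp)

end Groth.Agent.FPModelLib.Gen
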