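import Mathlib
import Groth.Agent.FPModelLib.ZSys
import Groth.Agent.ModPairLib.CoverDescent
import Groth.Agent.FPModelLib.ZModelBase

/-!
Models over finitely generated subrings for morphisms with a property attained at a stage.
-/

set_option autoImplicit false
set_option backward.isDefEq.respectTransparency false
set_option backward.isDefEq.respectTransparency.types false
set_option backward.defeqAttrib.useBackward true
set_option linter.style.haveILetI false
set_option maxHeartbeats 800000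

universe u

open CategoryTheory CategoryTheory.Limits AlgebraicGeometry

namespace Groth.Agent.FPModelLib

theorem attained_smooth {I : Type u} [SmallCategory I] [IsCofiltered I] (D : I ⥤ Scheme.{u}) (c : Cone D)
    [∀ {i j} (f : i ⟶ j), IsAffineHom (D.map f)] (hc : IsLimit c) :
    ModPairLib.AttainedAtStage D c (@Smooth) := by
  intro i X₀ X f₀ f q hc0 hq0 hlfp hpb hf
  haveI := hc0
  haveI := hlfp
  haveI := hf
  obtain ⟨k, hk⟩ := FlatStage.exists_smooth D c i f₀ (𝟙 (D.obj i))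
    (IsPullback.of_id_snd : IsPullback (c.π.app i) (𝟙 c.pt) (𝟙 (D.obj i)) (c.π.app i))
    hpb hc
  haveI := hk
  refine ⟨k.left, k.hom, _,
    (AffLim.baseChangeMap D i f₀ (𝟙 (D.obj i))).app k ≫ pullback.snd (𝟙 (D.obj i)) (D.map k.hom),
    pullback.fst (f₀ ≫ 𝟙 (D.obj i)) (D.map k.hom), ?_, inferInstance⟩
  exact ((AffLim.isPullback_baseChangeMap D i f₀ (𝟙 _) k).paste_vert
      (IsPullback.of_hasPullback (𝟙 (D.obj i)) (D.map k.hom))).of_iso
      (Iso.refl _) (Iso.refl _) (Iso.refl _) (Iso.refl _) (by simp) (by simp) (by simp) (by simp)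

/-- A morphism of finite presentation to `Spec A` with a property attained at a stage comes from a finitely
generated subring. -/
theorem exists_subring_model (P : MorphismProperty Scheme.{u}) (A : CommRingCat.{u})
    (hP : ModPairLib.AttainedAtStage (zSys A) (zCone A) P) {X : Scheme.{u}} (f : X ⟶ Spec A)
    [LocallyOfFinitePresentation f] [QuasiCompact f] [QuasiSeparated f] (hf : P f) :
    ∃ A₀ : Subalgebra ℤ A, A₀.FG ∧
      ∃ (X₀ : Scheme.{u}) (f₀ : X₀ ⟶ Spec (CommRingCat.of A₀)) (g : X ⟶ X₀),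
        P f₀ ∧ QuasiCompact f₀ ∧
          IsPullback g f f₀ (Spec.map (CommRingCat.ofHom (algebraMap A₀ A))) := by
  haveI : ∀ i, CompactSpace ((zSys A).obj i) := fun i => inferInstance
  haveI : CompactSpace X := QuasiCompact.compactSpace_of_compactSpace f
  haveI : QuasiSeparatedSpace X := quasiSeparatedSpace_of_quasiSeparated f
  obtain ⟨i, G, g, q, hm⟩ := Gen.exists_model (zSys A) (zCone A) (isLimitZCone A) f
  obtain ⟨k, φ, G', g', r, hr, hg'⟩ := hP i g f q hm.compact hm.qs hm.lfp hm.isPullback hf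
  haveI := hm.compact
  haveI : QuasiCompact g := quasiCompact_of_compactSpace g
  let s : X ⟶ G' := hr.lift q (f ≫ (zCone A).π.app k)
    (by rw [Category.assoc, Cone.w]; exact hm.isPullback.w)
  have hs : IsPullback s f g' ((zCone A).π.app k) :=
    IsPullback.of_right (by rw [hr.lift_fst, Cone.w]; exact hm.isPullback) (hr.lift_snd _ _ _) hr
  exact ⟨k.unop.1, k.unop.2, G', g', s, hg', MorphismProperty.of_isPullback hr inferInstance, hs⟩

theorem exists_subring_model_etale (A : CommRingCat.{u}) {X : Scheme.{u}} (f : X ⟶ Spec A)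
    [Etale f] [QuasiCompact f] [QuasiSeparated f] :
    ∃ A₀ : Subalgebra ℤ A, A₀.FG ∧
      ∃ (X₀ : Scheme.{u}) (f₀ : X₀ ⟶ Spec (CommRingCat.of A₀)) (g : X ⟶ X₀),
        Etale f₀ ∧ QuasiCompact f₀ ∧
          IsPullback g f f₀ (Spec.map (CommRingCat.ofHom (algebraMap A₀ A))) :=
  exists_subring_model @Etale A (ModPairLib.attained_etale _ _ (isLimitZCone A)) f ‹_›

theorem exists_subring_model_smooth (A : CommRingCat.{u}) {X : Scheme.{u}} (f : X ⟶ Spec A)
    [Smooth f] [QuasiCompact f] [QuasiSeparated f] :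
    ∃ A₀ : Subalgebra ℤ A, A₀.FG ∧
      ∃ (X₀ : Scheme.{u}) (f₀ : X₀ ⟶ Spec (CommRingCat.of A₀)) (g : X ⟶ X₀),
        Smooth f₀ ∧ QuasiCompact f₀ ∧
          IsPullback g f f₀ (Spec.map (CommRingCat.ofHom (algebraMap A₀ A))) :=
  exists_subring_model @Smooth A (attained_smooth _ _ (isLimitZCone A)) f ‹_›

theorem attained_unramified {I : Type u} [SmallCategory I] [IsCofiltered I] (D : I ⥤ Scheme.{u}) (c : Cone D)
    [∀ {i j} (f : i ⟶ j), IsAffineHom (D.map f)] (hc : IsLimit c) :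
    ModPairLib.AttainedAtStage D c (@FormallyUnramified) := by
  intro i X₀ X f₀ f q hc0 hq0 hlfp hpb hf
  haveI := hc0
  haveI := hlfp
  haveI := hf
  have hY : IsPullback (c.π.app i) (𝟙 c.pt) (𝟙 (D.obj i)) (c.π.app i) := IsPullback.of_id_snd
  obtain ⟨k, hk⟩ := FlatStage.exists_all_points D c i f₀ (𝟙 (D.obj i)) hY hpb hc
    (fun k z => ∃ U : ((AffLim.baseChange D i (f₀ ≫ 𝟙 (D.obj i))).obj k).Opens,
      z ∈ U ∧ FormallyUnramified (U.ι ≫ (AffLim.baseChangeMap D i f₀ (𝟙 (D.obj i))).app k))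
    (fun k => isOpen_iff_forall_mem_open.mpr fun z ⟨U, hz, hU⟩ =>
      ⟨U, fun z' hz' => ⟨U, hz', hU⟩, U.2, hz⟩)
    (fun {l k} a z hz =>
      FlatLocus.exists_nhd_of_isPullback (AffLim.isPullback_baseChangeMap_map D i f₀ (𝟙 _) a) z hz)
    (fun x => ⟨Over.mk (𝟙 i), FlatStage.unramifiedAt_stage D c i f₀ (𝟙 (D.obj i)) hY hpb x _
      ⟨⊤, trivial, IsZariskiLocalAtSource.comp (P := @FormallyUnramified) ‹FormallyUnramified f› _⟩⟩)
  choose U hU hs using hk
  haveI : FormallyUnramified ((AffLim.baseChangeMap D i f₀ (𝟙 (D.obj i))).app k) :=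
    IsZariskiLocalAtSource.of_iSup_eq_top U
      (eq_top_iff.mpr fun z _ => TopologicalSpace.Opens.mem_iSup.mpr ⟨z, hU z⟩) hs
  haveI : IsIso (pullback.snd (𝟙 (D.obj i)) (D.map k.hom)) := inferInstance
  refine ⟨k.left, k.hom, _,
    (AffLim.baseChangeMap D i f₀ (𝟙 (D.obj i))).app k ≫ pullback.snd (𝟙 (D.obj i)) (D.map k.hom),
    pullback.fst (f₀ ≫ 𝟙 (D.obj i)) (D.map k.hom), ?_,
    (MorphismProperty.cancel_right_of_respectsIso @FormallyUnramified _ _).mpr ‹_›⟩
  exact ((AffLim.isPullback_baseChangeMap D i f₀ (𝟙 _) k).paste_vert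
      (IsPullback.of_hasPullback (𝟙 (D.obj i)) (D.map k.hom))).of_iso
      (Iso.refl _) (Iso.refl _) (Iso.refl _) (Iso.refl _) (by simp) (by simp) (by simp) (by simp)

theorem attained_unramified_lfp {I : Type u} [SmallCategory I] [IsCofiltered I] (D : I ⥤ Scheme.{u}) (c : Cone D)
    [∀ {i j} (f : i ⟶ j), IsAffineHom (D.map f)] (hc : IsLimit c) :
    ModPairLib.AttainedAtStage D c (@FormallyUnramified ⊓ @LocallyOfFinitePresentation) := by
  intro i X₀ X f₀ f q hc0 hq0 hlfp hpb hf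
  obtain ⟨k, φ, G, g, r, hr, hg⟩ := attained_unramified D c hc i f₀ f q hc0 hq0 hlfp hpb hf.1
  exact ⟨k, φ, G, g, r, hr, hg, MorphismProperty.of_isPullback hr hlfp⟩

theorem exists_subring_model_unramified (A : CommRingCat.{u}) {X : Scheme.{u}} (f : X ⟶ Spec A)
    [FormallyUnramified f] [LocallyOfFinitePresentation f] [QuasiCompact f] [QuasiSeparated f] :
    ∃ A₀ : Subalgebra ℤ A, A₀.FG ∧
      ∃ (X₀ : Scheme.{u}) (f₀ : X₀ ⟶ Spec (CommRingCat.of A₀)) (g : X ⟶ X₀),
        FormallyUnramified f₀ ∧ LocallyOfFinitePresentation f₀ ∧ QuasiCompact f₀ ∧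
          IsPullback g f f₀ (Spec.map (CommRingCat.ofHom (algebraMap A₀ A))) := by
  obtain ⟨A₀, h0, X₀, f₀, g, ⟨h1, h2⟩, h3, h4⟩ :=
    exists_subring_model (@FormallyUnramified ⊓ @LocallyOfFinitePresentation) A
      (attained_unramified_lfp _ _ (isLimitZCone A)) f ⟨‹_›, ‹_›⟩
  exact ⟨A₀, h0, X₀, f₀, g, h1, h2, h3, h4⟩

end Groth.Agent.FPModelLib
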