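import Groth.Agent.FPModelLib.Model
import Groth.Agent.FPModelLib.ZModel
import Groth.Agent.FPModelLib.Proper
import Groth.Agent.FPModelLib.BaseId
import Groth.Agent.FlatStage.Smooth

/-!
# Proper flat models over finitely generated subrings
-/

set_option autoImplicit false
set_option backward.isDefEq.respectTransparency false
set_option linter.style.haveILetI false
set_option linter.unusedSectionVars false

universe u

open CategoryTheory CategoryTheory.Limits AlgebraicGeometry

noncomputable section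

namespace Groth.Agent.FPModelLib

variable {I : Type u} [SmallCategory I] [IsCofiltered I] (D : I ⥤ Scheme.{u}) (c : Cone D)
  (hc : IsLimit c) [∀ {i j} (a : i ⟶ j), IsAffineHom (D.map a)] [∀ i, IsAffine (D.obj i)]

include hc in
/-- A proper flat finitely presented morphism has a proper flat model. -/
theorem exists_proper_flat_model {X : Scheme.{u}} (f : X ⟶ c.pt) [CompactSpace X] [QuasiSeparatedSpace X]
    [LocallyOfFinitePresentation f] [IsProper f] [Flat f] :
    ∃ (i : I) (G : Scheme.{u}) (g : G ⟶ D.obj i) (q : X ⟶ G),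
      IsModel f (c.π.app i) g q ∧ IsProper g ∧ Flat g := by
  obtain ⟨i, G, g, q, hG⟩ := exists_model D c hc f
  haveI := hG.compact
  haveI := hG.qs
  haveI := hG.lfp
  have hY : IsPullback (c.π.app i) (𝟙 c.pt) (𝟙 (D.obj i)) (c.π.app i) := IsPullback.id_vert _
  obtain ⟨j, φ, hj⟩ := exists_proper_stage D c hc i g (𝟙 (D.obj i)) hY hG.isPullback
  have h1 := IsModel.stage D c hG (Over.mk φ)
  haveI hpr : IsProper (pullback.snd g (D.map φ)) := prop_snd_of_baseChangeMap D g (Over.mk φ) hj
  haveI := h1.compact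
  haveI := h1.qs
  haveI := h1.lfp
  have hY' : IsPullback (c.π.app j) (𝟙 c.pt) (𝟙 (D.obj j)) (c.π.app j) := IsPullback.id_vert _
  obtain ⟨k, hk⟩ := FlatStage.exists_flat D c j (pullback.snd g (D.map φ)) (𝟙 (D.obj j)) hY' h1.isPullback hc
  exact ⟨k.left, _, _, _, IsModel.stage D c h1 k, MorphismProperty.pullback_snd _ _ hpr,
    prop_snd_of_baseChangeMap D _ k hk⟩

/-- A proper flat finitely presented scheme over an affine scheme has a proper flat model over a finitely
generated subring. -/
theorem exists_proper_flat_zmodel {X S : Scheme.{u}} (f : X ⟶ S) [IsAffine S] [LocallyOfFinitePresentation f]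
    [IsProper f] [Flat f] :
    ∃ (i : (ZIdx Γ(S, ⊤))ᵒᵖ) (X₀ : Scheme.{u}) (f₀ : X₀ ⟶ (zSys Γ(S, ⊤)).obj i) (q : X ⟶ X₀),
      LocallyOfFinitePresentation f₀ ∧ IsProper f₀ ∧ Flat f₀ ∧ IsPullback q f f₀ (zπ S i) := by
  haveI : CompactSpace X := QuasiCompact.compactSpace_of_compactSpace f
  haveI : QuasiSeparatedSpace X := quasiSeparatedSpace_of_quasiSeparated f
  let f' : X ⟶ (zCone Γ(S, ⊤)).pt := f ≫ S.isoSpec.hom
  haveI : LocallyOfFinitePresentation f' := inferInstanceAs (LocallyOfFinitePresentation (f ≫ S.isoSpec.hom))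
  haveI : IsProper f' := inferInstanceAs (IsProper (f ≫ S.isoSpec.hom))
  haveI : Flat f' := inferInstanceAs (Flat (f ≫ S.isoSpec.hom))
  obtain ⟨i, G, g, q, hG, hp, hfl⟩ := exists_proper_flat_model (zSys Γ(S, ⊤)) (zCone Γ(S, ⊤)) (isLimitZCone _) f'
  refine ⟨i, G, g, q, hG.lfp, hp, hfl, ?_⟩
  refine hG.isPullback.of_iso (Iso.refl _) (Iso.refl _) S.isoSpec.symm (Iso.refl _) ?_ ?_ ?_ ?_
  · simp
  · exact ((Category.assoc f S.isoSpec.hom S.isoSpec.inv).trans ((congrArg (f ≫ ·) S.isoSpec.hom_inv_id).trans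
      (Category.comp_id f))).trans (Category.id_comp f).symm
  · simp
  · exact (Category.comp_id _).trans (S.isoSpec.inv_hom_id_assoc _).symm

end Groth.Agent.FPModelLib
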