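import Groth.Agent.AffLim.DescendConst
import Groth.Agent.ChowLib.General
import Groth.Agent.AmpleEmb.Compose

/-!
# A proper scheme over a limit, of finite type over a stage, is proper over a stage
-/

set_option autoImplicit false
set_option backward.isDefEq.respectTransparency false
set_option backward.defeqAttrib.useBackward true
set_option linter.style.haveILetI false
set_option linter.unusedSectionVars false

universe u

open CategoryTheory CategoryTheory.Limits AlgebraicGeometry

noncomputable section

namespace Groth.Agent.FPModelLib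

variable {I : Type u} [SmallCategory I] [IsCofiltered I] (D : I ⥤ Scheme.{u}) (c : Cone D) (hc : IsLimit c)
  [∀ {i j} (a : i ⟶ j), IsAffineHom (D.map a)] [∀ i, CompactSpace (D.obj i)] [∀ i, QuasiSeparatedSpace (D.obj i)]

include hc in
/-- A scheme proper over the limit and of finite type over a stage is proper over a later stage, and all after. -/
theorem exists_proper_comp_π {Y : Scheme.{u}} (h : Y ⟶ c.pt) [IsProper h] (i : I)
    [LocallyOfFiniteType (h ≫ c.π.app i)] :
    ∃ i₁ : I, ∀ (k : I) (_ : k ⟶ i₁), IsProper (h ≫ c.π.app k) := by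
  have := isAffineHom_π_app D c hc
  obtain ⟨n, X', π, j, hj, hjf, hπ, hsurj⟩ := ChowLib.exists_chow_general (h ≫ c.π.app i)
  haveI := hj
  haveI := hπ
  haveI := hsurj
  let β := CohB1.ProjSpaceOver.toBase n (D.obj i)
  haveI : IsProper β := AmpleEmb.isProper_toBase n (D.obj i)
  haveI : CompactSpace ↥(CohB1.ProjSpaceOver n (D.obj i)) := QuasiCompact.compactSpace_of_compactSpace β
  haveI : QuasiSeparatedSpace ↥(CohB1.ProjSpaceOver n (D.obj i)) := quasiSeparatedSpace_of_quasiSeparated β
  let P := AffLim.baseChange D i β
  let cP := AffLim.baseChangeCone D c i β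
  obtain ⟨hcP⟩ := AffLim.nonempty_isLimit_baseChangeCone D c hc i β
  let jl : X' ⟶ pullback β (c.π.app i) := pullback.lift j (π ≫ h) (by
    rw [Category.assoc, ← hjf])
  haveI : IsImmersion jl := by
    haveI : IsImmersion (jl ≫ pullback.fst β (c.π.app i)) := by rw [pullback.lift_fst]; exact hj
    exact IsImmersion.of_comp jl (pullback.fst β (c.π.app i))
  haveI : IsClosedImmersion jl := by
    haveI : IsProper (pullback.snd β (c.π.app i)) := MorphismProperty.pullback_snd _ _ inferInstance
    haveI : IsProper (jl ≫ pullback.snd β (c.π.app i)) := by rw [pullback.lift_snd]; infer_instance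
    haveI : IsProper jl := IsProper.of_comp jl (pullback.snd β (c.π.app i))
    exact AffLim.isClosedImmersion_of_isImmersion jl jl.isClosedMap.isClosed_range
  let jP : X' ⟶ cP.pt := jl
  haveI : IsClosedImmersion jP := inferInstanceAs (IsClosedImmersion jl)
  haveI : ∀ k, LocallyOfFiniteType (jP ≫ cP.π.app k) := fun k => by
    haveI : LocallyOfFiniteType ((jP ≫ cP.π.app k) ≫ pullback.fst β (D.map k.hom)) := by
      rw [show (jP ≫ cP.π.app k) ≫ pullback.fst β (D.map k.hom) = j by simp [jP, cP, jl, pullback.map]]
      infer_instance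
    exact locallyOfFiniteType_of_comp _ (pullback.fst β (D.map k.hom))
  obtain ⟨k, hk⟩ := AffLim.exists_isClosedImmersion_comp_π (c := cP) hcP jP
  haveI : IsProper (π ≫ h ≫ c.π.app k.left) := by
    have e : π ≫ h ≫ c.π.app k.left = (jP ≫ cP.π.app k) ≫ pullback.snd β (D.map k.hom) := by
      simp [jP, cP, jl, pullback.map]
    haveI : IsProper (pullback.snd β (D.map k.hom)) := MorphismProperty.pullback_snd _ _ inferInstance
    rw [e]
    infer_instance
  haveI : LocallyOfFiniteType ((h ≫ c.π.app k.left) ≫ D.map k.hom) := by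
    rw [Category.assoc, c.w]; infer_instance
  haveI : LocallyOfFiniteType (h ≫ c.π.app k.left) := locallyOfFiniteType_of_comp _ (D.map k.hom)
  haveI : UniversallyClosed (h ≫ c.π.app k.left) := UniversallyClosed.of_comp_surjective π _
  haveI hpr : IsProper (h ≫ c.π.app k.left) := {}
  refine ⟨k.left, fun l a => ?_⟩
  haveI : IsProper ((h ≫ c.π.app l) ≫ D.map a) := by rw [Category.assoc, c.w]; exact hpr
  exact IsProper.of_comp _ (D.map a)

end Groth.Agent.FPModelLib
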